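import Groth.Agent.NormalizNormalLib.Alg
import Groth.Agent.NormSectGlobLib.Basic
import Groth.Agent.ClopenFFLib.Normal
import Groth.Agent.ClopenFFLib.AppBij
import Groth.Agent.FFDescLib.Closure
import Groth.Prelude.Def_Pi1

/-! The normalization of a scheme in a normal scheme with locally finitely many components. -/

set_option autoImplicit false
universe u

noncomputable section

open CategoryTheory AlgebraicGeometry TopologicalSpace

namespace NormalizNormalLib

section

variable {Y : Scheme.{u}} (hY : Pi1.IsNormalScheme Y)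
  (hfin : LocallyFinite (fun Z : ↥(irreducibleComponents ↥Y) => (Z : Set ↥Y)))

include hY in
theorem eq_component {Z : Set Y} (hZ : Z ∈ irreducibleComponents ↥Y) {y : Y} (hy : y ∈ Z) :
    irreducibleComponent y = Z := by
  have : ∀ y : Y, IsDomain (Y.presheaf.stalk y) := fun y => (hY y).1
  exact ClopenFFLib.component_unique (irreducibleComponent_mem_irreducibleComponents y) hZ
    mem_irreducibleComponent hy

include hY hfin in
theorem isClopen_component {Z : Set Y} (hZ : Z ∈ irreducibleComponents ↥Y) : IsClopen Z := by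
  refine ⟨isClosed_of_mem_irreducibleComponents Z hZ, ?_⟩
  let g : {W : ↥(irreducibleComponents ↥Y) // (W : Set Y) ≠ Z} → Set Y := fun W => (W.1 : Set Y)
  have h1 : IsClosed (⋃ W, g W) := LocallyFinite.isClosed_iUnion
    (hfin.comp_injective Subtype.val_injective) fun W => isClosed_of_mem_irreducibleComponents _ W.1.2
  have hc : Z = (⋃ W, g W)ᶜ := by
    ext y
    simp only [Set.mem_compl_iff, Set.mem_iUnion, not_exists]
    refine ⟨fun hy W hyW => W.2 ?_, fun h => ?_⟩
    · rw [← eq_component hY W.1.2 hyW]
      exact eq_component hY hZ hy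
    · by_contra hy
      exact h ⟨⟨_, irreducibleComponent_mem_irreducibleComponents y⟩,
        fun he => hy (by rw [← he]; exact mem_irreducibleComponent)⟩ mem_irreducibleComponent
  rw [hc]
  exact h1.isOpen_compl

include hfin in
theorem finite_components_inter {K : Set Y} (hK : IsCompact K) :
    {Z : Set Y | Z ∈ irreducibleComponents ↥Y ∧ (Z ∩ K).Nonempty}.Finite :=
  Set.Finite.subset (Set.Finite.image (fun Z : ↥(irreducibleComponents ↥Y) => (Z : Set Y))
    (hfin.finite_nonempty_inter_compact hK)) fun Z hZ => ⟨⟨Z, hZ.1⟩, hZ.2, rfl⟩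

include hY hfin in
theorem exists_integral_nbhd (W : Y.Opens) (w : (W : Scheme.{u})) :
    ∃ O : (W : Scheme.{u}).Opens, w ∈ O ∧ IsIntegral (O : Scheme.{u}) := by
  have : ∀ y : Y, _root_.IsReduced (Y.presheaf.stalk y) := fun y =>
    haveI := (hY y).1
    isReduced_of_noZeroDivisors
  have : IsReduced Y := isReduced_of_isReduced_stalk Y
  let C : Y.Opens := ⟨irreducibleComponent (W.ι w),
    (isClopen_component hY hfin (irreducibleComponent_mem_irreducibleComponents _)).2⟩
  have hwC : W.ι w ∈ C := mem_irreducibleComponent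
  have : IrreducibleSpace (C : Scheme.{u}) :=
    Subtype.irreducibleSpace (isIrreducible_irreducibleComponent (x := W.ι w))
  have : IsIntegral (C : Scheme.{u}) := isIntegral_of_irreducibleSpace_of_isReduced _
  let O : (W : Scheme.{u}).Opens := W.ι ⁻¹ᵁ C
  refine ⟨O, hwC, ?_⟩
  have : Nonempty (O : Scheme.{u}) := ⟨⟨w, hwC⟩⟩
  let j : (O : Scheme.{u}) ⟶ C := IsOpenImmersion.lift C.ι (O.ι ≫ W.ι) (by
    rintro _ ⟨x, rfl⟩
    rw [C.range_ι]
    exact x.2)
  have : IsOpenImmersion j := by
    have : IsOpenImmersion (j ≫ C.ι) := by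
      rw [IsOpenImmersion.lift_fac]; infer_instance
    exact IsOpenImmersion.of_comp j C.ι
  exact isIntegral_of_isOpenImmersion j

include hY in
theorem normal_open (W : Y.Opens) : Pi1.IsNormalScheme (W : Scheme.{u}) := fun w => by
  let e := (W.stalkIso w).commRingCatIsoToRingEquiv
  have := (hY w.1).1
  have := (hY w.1).2
  exact ⟨e.toMulEquiv.isDomain _, IsIntegrallyClosed.of_equiv e.symm⟩

include hY hfin in
theorem locNormal_sections (W : Y.Opens) : NormalLib.LocNormal Γ(Y, W) :=
  locNormal_of_ringEquiv (W.topIso.commRingCatIsoToRingEquiv) fun P _ =>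
    ⟨NormSectGlobLib.isDomain_localization (normal_open hY W) (exists_integral_nbhd hY hfin W) P,
      NormSectGlobLib.isIntegrallyClosed_localization (normal_open hY W) (exists_integral_nbhd hY hfin W) P⟩

include hY hfin in
theorem finite_minimalPrimes_sections (W : Y.Opens) (hW : IsCompact (W : Set Y)) :
    (minimalPrimes Γ(Y, W)).Finite := by
  classical
  have : ∀ y : Y, _root_.IsReduced (Y.presheaf.stalk y) := fun y =>
    haveI := (hY y).1
    isReduced_of_noZeroDivisors
  have : IsReduced Y := isReduced_of_isReduced_stalk Y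
  let E : Set {η : Y // η ∈ W} := {η | closure {(η.1 : Y)} ∈ irreducibleComponents ↥Y}
  have hE : E.Finite := by
    refine Set.Finite.of_finite_image ((finite_components_inter hfin hW).subset (t := (fun η : {η : Y // η ∈ W} => closure {(η.1 : Y)}) '' E) ?_) ?_
    · rintro _ ⟨η, hη, rfl⟩
      exact ⟨hη, η.1, subset_closure rfl, η.2⟩
    · intro a _ b _ h
      exact Subtype.ext ((isGenericPoint_def.2 (h : closure {a.1} = closure {b.1})).eq (isGenericPoint_def.2 rfl))
  let q : {η : Y // η ∈ W} → Ideal Γ(Y, W) := fun η => RingHom.ker (Y.presheaf.germ W η.1 η.2).hom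
  refine (hE.image q).subset fun p hp => ?_
  have hpp := hp.1.1
  have hinf : hE.toFinset.inf q ≤ p := fun s hs => by
    suffices s = 0 by rw [this]; exact p.zero_mem
    refine (AlgebraicGeometry.basicOpen_eq_bot_iff s).1 (eq_bot_iff.2 fun z hz => ?_)
    obtain ⟨η, hη⟩ := QuasiSober.sober (isIrreducible_irreducibleComponent (x := z)) isClosed_irreducibleComponent
    have hsp : η ⤳ z := hη.specializes mem_irreducibleComponent
    have hηb : η ∈ Y.basicOpen s := hsp.mem_open (Y.basicOpen s).2 hz
    have hηW : η ∈ W := hsp.mem_open W.2 (Y.basicOpen_le s hz)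
    have hηE : (⟨η, hηW⟩ : {η : Y // η ∈ W}) ∈ E := by
      show closure {η} ∈ irreducibleComponents ↥Y
      rw [hη.def]
      exact irreducibleComponent_mem_irreducibleComponents z
    have h0 : Y.presheaf.germ W η hηW s = 0 := RingHom.mem_ker.1
      (Finset.inf_le (f := q) (hE.mem_toFinset.2 hηE) hs)
    have hu := (Y.mem_basicOpen s η hηW).1 hηb
    rw [h0] at hu
    have := (hY η).1
    exact absurd hu not_isUnit_zero
  obtain ⟨η, hη, hle⟩ := (Ideal.IsPrime.inf_le' hpp).1 hinf
  refine ⟨η, hE.mem_toFinset.1 hη, le_antisymm hle (hp.2 ⟨?_, bot_le⟩ hle)⟩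
  have := (hY η.1).1
  exact RingHom.ker_isPrime _

end

variable {X Y : Scheme.{u}} (f : Y ⟶ X) [QuasiCompact f] [QuasiSeparated f] (hY : Pi1.IsNormalScheme Y)
  (hfin : LocallyFinite (fun Z : ↥(irreducibleComponents ↥Y) => (Z : Set ↥Y)))

include hY hfin in
theorem normalization_isNormal : Pi1.IsNormalScheme f.normalization := fun n => by
  obtain ⟨U, hU, hnU, -⟩ := exists_isAffineOpen_mem_and_subset (x := f.fromNormalization n) (U := ⊤) trivial
  letI := (f.app U).hom.toAlgebra
  have hc : IsCompact (f ⁻¹ᵁ U : Set Y) := f.isCompact_preimage hU.isCompact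
  have hA : NormalLib.LocNormal Γ(f.normalization, f.fromNormalization ⁻¹ᵁ U) :=
    locNormal_of_ringEquiv (f.normalizationObjIso hU).commRingCatIsoToRingEquiv.symm
      (locNormal_integralClosure (locNormal_sections hY hfin _) (finite_minimalPrimes_sections hY hfin _ hc))
  have hV := hU.preimage f.fromNormalization
  let x : (f.fromNormalization ⁻¹ᵁ U : f.normalization.Opens) := ⟨n, hnU⟩
  letI := f.normalization.presheaf.algebra_section_stalk x
  have := hV.isLocalization_stalk x
  let q := (hV.primeIdealOf x).asIdeal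
  have := (hA q).1
  have := (hA q).2
  let e' := (IsLocalization.algEquiv q.primeCompl (Localization.AtPrime q)
    (f.normalization.presheaf.stalk n)).toRingEquiv
  exact ⟨e'.symm.toMulEquiv.isDomain _, IsIntegrallyClosed.of_equiv e'⟩

/-- Generic points of `Y` over the same affine open which are not separated after mapping to the normalization
are equal. -/
theorem eq_of_specializes {U : X.Opens} (hU : IsAffineOpen U) {y y' : Y}
    (hy : closure {y} ∈ irreducibleComponents ↥Y) (hy' : closure {y'} ∈ irreducibleComponents ↥Y)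
    (hyU : f y ∈ U) (hy'U : f y' ∈ U) (hs : f.toNormalization y' ⤳ f.toNormalization y)
    (hY : Pi1.IsNormalScheme Y)
    (hfin : LocallyFinite (fun Z : ↥(irreducibleComponents ↥Y) => (Z : Set ↥Y))) :
    y = y' := by
  by_contra hne
  have hC := isClopen_component hY hfin hy
  obtain ⟨e, he, heC⟩ := ClopenFFLib.exists_idem hC
  let eW : Γ(Y, f ⁻¹ᵁ U) := Y.presheaf.map (homOfLE le_top).op e
  have heW : eW * eW = eW := by
    show (Y.presheaf.map _).hom e * (Y.presheaf.map _).hom e = (Y.presheaf.map _).hom e
    rw [← map_mul, he]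
  letI := (f.app U).hom.toAlgebra
  have hint : IsIntegral Γ(X, U) eW := ⟨Polynomial.X * (Polynomial.X - Polynomial.C 1),
    Polynomial.monic_X.mul (Polynomial.monic_X_sub_C 1), by simp [mul_sub, heW]⟩
  let ι := f.normalizationObjIso hU
  let e' : Γ(f.normalization, f.fromNormalization ⁻¹ᵁ U) := ι.inv ⟨eW, hint⟩
  have hle : f ⁻¹ᵁ U ≤ f.toNormalization ⁻¹ᵁ f.fromNormalization ⁻¹ᵁ U := by
    simp [← Scheme.Hom.comp_preimage]
  have happ : f.toNormalization.appLE _ _ hle e' = eW := by
    have h := ConcreteCategory.congr_hom (f.normalizationObjIso_hom_val hU) e'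
    rw [CommRingCat.comp_apply] at h
    refine h.symm.trans ?_
    show ((ι.hom (ι.inv _) : _) : Γ(Y, f ⁻¹ᵁ U)) = eW
    rw [← CommRingCat.comp_apply, ι.inv_hom_id]
    rfl
  have hb : ∀ z : Y, f z ∈ U → (f.toNormalization z ∈ f.normalization.basicOpen e' ↔ z ∈ closure {y}) := fun z hz => by
    have h1 := f.toNormalization.preimage_basicOpen e'
    have h2 : z ∈ Y.basicOpen (f.toNormalization.app _ e') ↔ z ∈ Y.basicOpen eW := by
      rw [← happ, Scheme.Hom.appLE, CommRingCat.comp_apply, Scheme.basicOpen_res]
      exact ⟨fun h => ⟨hz, h⟩, fun h => h.2⟩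
    have h3 : z ∈ Y.basicOpen eW ↔ z ∈ closure {y} := by
      show z ∈ Y.basicOpen (Y.presheaf.map _ e) ↔ _
      rw [Scheme.basicOpen_res]
      have h4 : (z ∈ Y.basicOpen e) ↔ z ∈ closure {y} := Set.ext_iff.1 heC z
      exact ⟨fun h => h4.1 h.2, fun h => ⟨hz, h4.2 h⟩⟩
    rw [← h3, ← h2, ← h1]
    rfl
  have h5 := (hb y hyU).2 (subset_closure rfl)
  have h6 := (hb y' hy'U).1 (hs.mem_open (f.normalization.basicOpen e').2 h5)
  exact hne (((isGenericPoint_def.2 (rfl : closure {y} = closure {y})).eq
    (isGenericPoint_def.2 (hy'.eq_of_le isIrreducible_singleton.closure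
      (closure_minimal (Set.singleton_subset_iff.2 h6) isClosed_closure)))))

theorem exists_generic_over (x' : ↥f.normalization)
    (hx' : closure {x'} ∈ irreducibleComponents ↥f.normalization) :
    ∃ y : Y, closure {y} ∈ irreducibleComponents ↥Y ∧ f.toNormalization y = x' := by
  obtain ⟨y₁, hy₁⟩ := FFDescLib.exists_specializes_of_mem_closure_range (f := f.toNormalization)
    (y := x') (f.toNormalization.denseRange.closure_eq.symm ▸ Set.mem_univ _)
  have hy₁' : f.toNormalization y₁ = x' := (hy₁.antisymm (specializes_iff_closure_subset.2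
    (hx'.2 isIrreducible_singleton.closure (specializes_iff_closure_subset.1 hy₁)))).eq
  obtain ⟨y, hy⟩ := QuasiSober.sober (isIrreducible_irreducibleComponent (x := y₁)) isClosed_irreducibleComponent
  refine ⟨y, by rw [hy.def]; exact irreducibleComponent_mem_irreducibleComponents y₁, ?_⟩
  have hle : f.toNormalization y ⤳ x' := hy₁' ▸ (hy.specializes mem_irreducibleComponent).map f.toNormalization.continuous
  exact (hle.antisymm (specializes_iff_closure_subset.2
    (hx'.2 isIrreducible_singleton.closure (specializes_iff_closure_subset.1 hle)))).eq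

include hfin in
theorem normalization_locallyFinite :
    LocallyFinite (fun Z : ↥(irreducibleComponents ↥f.normalization) => (Z : Set ↥f.normalization)) := by
  intro n
  obtain ⟨U, hU, hnU, -⟩ := exists_isAffineOpen_mem_and_subset (x := f.fromNormalization n) (U := ⊤) trivial
  refine ⟨f.fromNormalization ⁻¹ᵁ U, (f.fromNormalization ⁻¹ᵁ U).2.mem_nhds hnU, ?_⟩
  let K : Set Y := f ⁻¹ᵁ U
  have hK : {y : Y | closure {y} ∈ irreducibleComponents ↥Y ∧ y ∈ K}.Finite := by
    refine Set.Finite.of_finite_image ((finite_components_inter hfin (f.isCompact_preimage hU.isCompact)).subset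
      (t := (fun y : Y => closure {y}) '' _) ?_) ?_
    · rintro _ ⟨y, hy, rfl⟩
      exact ⟨hy.1, y, subset_closure rfl, hy.2⟩
    · intro a _ b _ h
      exact (isGenericPoint_def.2 (h : closure {a} = closure {b})).eq (isGenericPoint_def.2 rfl)
  refine Set.Finite.of_finite_image ((hK.image fun y => closure {f.toNormalization y}).subset ?_)
    (Subtype.val_injective.injOn)
  rintro _ ⟨⟨Z, hZ⟩, ⟨z, hzZ, hzU⟩, rfl⟩
  obtain ⟨η, hη⟩ := QuasiSober.sober hZ.1 (isClosed_of_mem_irreducibleComponents Z hZ)
  obtain ⟨y, hy, hyη⟩ := exists_generic_over f η (hη.def.symm ▸ hZ)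
  refine ⟨y, ⟨hy, ?_⟩, by show closure {f.toNormalization y} = Z; rw [hyη]; exact hη.def⟩
  have h1 : η ∈ f.fromNormalization ⁻¹ᵁ U := (hη.specializes hzZ).mem_open (f.fromNormalization ⁻¹ᵁ U).2 hzU
  rw [← hyη] at h1
  show f y ∈ U
  rw [← f.toNormalization_fromNormalization]
  exact h1

include hY hfin in
theorem generic_bijection :
    (∀ y : Y, closure {y} ∈ irreducibleComponents ↥Y →
      closure {f.toNormalization y} ∈ irreducibleComponents ↥f.normalization) ∧
    (∀ x' : ↥f.normalization, closure {x'} ∈ irreducibleComponents ↥f.normalization →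
      ∃! y : Y, closure {y} ∈ irreducibleComponents ↥Y ∧ f.toNormalization y = x') := by
  have hf : ∀ z : Y, f.fromNormalization (f.toNormalization z) = f z := fun z => by
    rw [← Scheme.Hom.comp_apply, f.toNormalization_fromNormalization]
  refine ⟨fun y hy => ?_, fun x' hx' => ?_⟩
  · obtain ⟨η, hη⟩ := QuasiSober.sober (isIrreducible_irreducibleComponent (x := f.toNormalization y))
      isClosed_irreducibleComponent
    have hηc : closure {η} ∈ irreducibleComponents ↥f.normalization := by
      rw [hη.def]; exact irreducibleComponent_mem_irreducibleComponents _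
    obtain ⟨y', hy', rfl⟩ := exists_generic_over f η hηc
    have hs : f.toNormalization y' ⤳ f.toNormalization y := hη.specializes mem_irreducibleComponent
    obtain ⟨U, hU, hyU, -⟩ := exists_isAffineOpen_mem_and_subset (x := f y) (U := ⊤) trivial
    have hy'U : f y' ∈ U := by
      have := hs.map f.fromNormalization.continuous
      rw [hf, hf] at this
      exact this.mem_open U.2 hyU
    rw [eq_of_specializes f hU hy hy' hyU hy'U hs hY hfin]
    exact hηc
  · obtain ⟨y, hy, hyx⟩ := exists_generic_over f x' hx'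
    refine ⟨y, ⟨hy, hyx⟩, fun y' hy' => ?_⟩
    obtain ⟨U, hU, hyU, -⟩ := exists_isAffineOpen_mem_and_subset (x := f y) (U := ⊤) trivial
    have he : f.toNormalization y' = f.toNormalization y := hy'.2.trans hyx.symm
    have hy'U : f y' ∈ U := by rw [← hf y', he, hf]; exact hyU
    exact (eq_of_specializes f hU hy hy'.1 hyU hy'U (specializes_of_eq he) hY hfin).symm

end NormalizNormalLib
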