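import Mathlib
import Groth.Agent.NormalLib.NormalRing

/-! Integral closures in normal rings with finitely many minimal primes are normal. -/

set_option autoImplicit false

universe u v

open scoped nonZeroDivisors

namespace NormalizNormalLib

theorem locNormal_of_ringEquiv {A B : Type*} [CommRing A] [CommRing B] (e : A ≃+* B) (h : NormalLib.LocNormal A) :
    NormalLib.LocNormal B := by
  intro p hp
  let q := p.comap e.toRingHom
  have hq : q.IsPrime := Ideal.IsPrime.comap _
  have H : q.primeCompl.map e.toRingHom = p.primeCompl := by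
    ext b
    constructor
    · rintro ⟨a, ha, rfl⟩
      exact ha
    · intro hb
      refine ⟨e.symm b, ?_, e.apply_symm_apply b⟩
      show e (e.symm b) ∉ p
      rwa [e.apply_symm_apply]
  let E : Localization.AtPrime q ≃+* Localization.AtPrime p :=
    IsLocalization.ringEquivOfRingEquiv (M := q.primeCompl) (T := p.primeCompl)
      (Localization.AtPrime q) (Localization.AtPrime p) e H
  have := (h q).1
  have := (h q).2
  exact ⟨E.symm.toMulEquiv.isDomain _, IsIntegrallyClosed.of_equiv E⟩

section

variable {R S : Type u} [CommRing R] [CommRing S] [Algebra R S]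

theorem finite_minimalPrimes_subalgebra (A : Subalgebra R S) (hfin : (minimalPrimes S).Finite) :
    (minimalPrimes A).Finite := by
  refine (hfin.image fun q => q.comap (A.val : A →+* S)).subset fun p hp => ?_
  have hker : RingHom.ker (A.val : A →+* S) = ⊥ := (RingHom.injective_iff_ker_eq_bot _).1 Subtype.val_injective
  obtain ⟨p', hp', -, hc⟩ := Ideal.exists_comap_eq_of_mem_minimalPrimes (A.val : A →+* S) (I := ⊥) p
    (by rw [← RingHom.ker_eq_comap_bot, hker]; exact hp)
  obtain ⟨q, hq, hqp⟩ := Ideal.exists_minimalPrimes_le (I := (⊥ : Ideal S)) (J := p') bot_le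
  refine ⟨q, hq, le_antisymm (hc ▸ Ideal.comap_mono hqp) (hp.2 ⟨?_, bot_le⟩ (hc ▸ Ideal.comap_mono hqp))⟩
  have := hq.1.1
  exact Ideal.IsPrime.comap _

theorem mem_nonZeroDivisors_of_subalgebra (hS : NormalLib.LocNormal S) (hfin : (minimalPrimes S).Finite)
    {a : integralClosure R S} (ha : a ∈ (integralClosure R S)⁰) : (a : S) ∈ S⁰ := by
  have := hS.isReduced
  have hzero : ∀ z : S, (∀ q ∈ minimalPrimes S, z ∈ q) → z = 0 := fun z hz => by
    have : z ∈ nilradical S := by
      rw [nilradical_eq_sInf]
      refine Submodule.mem_sInf.2 fun J hJ => ?_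
      have : Ideal.IsPrime J := hJ
      obtain ⟨q, hq, hqJ⟩ := Ideal.exists_minimalPrimes_le (I := (⊥ : Ideal S)) (J := J) bot_le
      exact hqJ (hz q hq)
    exact (mem_nilradical.1 this).eq_zero
  rw [mem_nonZeroDivisors_iff_right]
  intro s hs
  refine hzero s fun q hq => ?_
  have hqp : q.IsPrime := hq.1.1
  refine (hqp.mem_or_mem (hs ▸ q.zero_mem : s * (a : S) ∈ q)).resolve_right fun haq => ?_
  obtain ⟨e, hee, h1e, heq⟩ := NormalLib.exists_idempotent hfin (FractionRing S)
    (fun x hx => hS.exists_eq_of_isIntegral _ hx) hq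
  have hea : e * (a : S) = 0 := hzero _ fun q' hq' => by
    by_cases h : q' = q
    · subst h
      exact Ideal.mul_mem_left _ _ haq
    · exact Ideal.mul_mem_right _ _ (heq q' hq' h)
  have heA : IsIntegral R e := ⟨Polynomial.X * (Polynomial.X - Polynomial.C 1),
    Polynomial.monic_X.mul (Polynomial.monic_X_sub_C 1), by simp [mul_sub, hee]⟩
  have h0 : (⟨e, heA⟩ : integralClosure R S) = 0 :=
    mem_nonZeroDivisors_iff_right.1 ha _ (Subtype.ext hea)
  have he0 : e = 0 := congrArg Subtype.val h0
  rw [he0, sub_zero] at h1e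
  exact hqp.ne_top ((Ideal.eq_top_iff_one q).2 h1e)

theorem locNormal_integralClosure (hS : NormalLib.LocNormal S) (hfin : (minimalPrimes S).Finite) :
    NormalLib.LocNormal (integralClosure R S) := by
  have := hS.isReduced
  let A := integralClosure R S
  have : IsReduced A := isReduced_of_injective (A.val : A →+* S) Subtype.val_injective
  refine NormalLib.locNormal_of_isIntegrallyClosedIn (finite_minimalPrimes_subalgebra A hfin) (FractionRing A)
    fun x hx => ?_
  have hu : ∀ d : A⁰, IsUnit (algebraMap A (FractionRing S) d) := fun d => by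
    rw [IsScalarTower.algebraMap_apply A S (FractionRing S)]
    exact IsLocalization.map_units (FractionRing S) (⟨_, mem_nonZeroDivisors_of_subalgebra hS hfin d.2⟩ : S⁰)
  let ψ : FractionRing A →ₐ[A] FractionRing S :=
    IsLocalization.liftAlgHom (M := A⁰) (f := Algebra.ofId A (FractionRing S)) hu
  obtain ⟨s, hs⟩ := hS.exists_eq_of_isIntegral (FractionRing S) ((hx.map ψ).tower_top (A := S))
  have hinj : Function.Injective (algebraMap S (FractionRing S)) := IsFractionRing.injective _ _
  have hsA : IsIntegral A s := (isIntegral_algebraMap_iff hinj).1 (hs ▸ hx.map ψ)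
  have hsR : IsIntegral R s := isIntegral_trans s hsA
  refine ⟨⟨s, hsR⟩, ?_⟩
  obtain ⟨⟨c, d⟩, hcd⟩ := IsLocalization.surj A⁰ x
  refine (IsLocalization.map_units (FractionRing A) d).mul_left_injective ?_
  show algebraMap A (FractionRing A) _ * algebraMap A (FractionRing A) (d : A) = x * algebraMap A (FractionRing A) (d : A)
  rw [hcd, ← map_mul]
  congr 1
  refine Subtype.ext (hinj ?_)
  have h := congrArg ψ hcd
  rw [map_mul, ψ.commutes, ψ.commutes, IsScalarTower.algebraMap_apply A S (FractionRing S),
    IsScalarTower.algebraMap_apply A S (FractionRing S), ← hs] at h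
  simp only [MulMemClass.coe_mul, map_mul]
  exact h

end

end NormalizNormalLib
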