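import Groth.Agent.NormalizNormalLib.Alg
import Groth.Agent.NormFinVarLib.Nagata
import Groth.Agent.FFDescLib.Closure
import Groth.Prelude.Def_Found

/-! Points of dimension one of the normalization outside the image. -/

set_option autoImplicit false
universe u

noncomputable section

open CategoryTheory AlgebraicGeometry TopologicalSpace
open scoped nonZeroDivisors

namespace NormalizNormalLib

theorem isDVR_of_dim_one {A S O : Type u} [CommRing A] [CommRing S] [CommRing O] [Algebra A S] [Algebra A O]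
    (P : Ideal A) [P.IsPrime] [IsLocalization.AtPrime O P] [IsNoetherianRing O] [IsReduced O]
    (hinj : Function.Injective (algebraMap A S)) (hcl : ∀ z : S, IsIntegral A z → ∃ a, algebraMap A S a = z)
    (hdim : ringKrullDim O = 1)
    (hdiv : ∀ τ : A, algebraMap A O τ ∈ O⁰ → ∃ s ∉ P, algebraMap A S τ ∣ algebraMap A S s) :
    ∃ _ : IsDomain O, IsDiscreteValuationRing O := by
  classical
  have hloc : IsLocalRing O := IsLocalization.AtPrime.isLocalRing O P
  let Q := FractionRing O
  have hfin : (minimalPrimes O).Finite := minimalPrimes.finite_of_isNoetherianRing O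
  have hunit : ∀ v : A, v ∉ P → IsUnit (algebraMap A O v) := fun v hv =>
    IsLocalization.map_units O (⟨v, hv⟩ : P.primeCompl)
  have key : ∀ (x : Q) (a τ : A), algebraMap A O τ ∈ O⁰ → x * algebraMap A Q τ = algebraMap A Q a →
      IsIntegral O x → ∃ y, algebraMap O Q y = x := by
    intro x a τ hτ hx hint
    obtain ⟨⟨σ, hσ⟩, g₀, hg₀, hg₀0⟩ :=
      IsIntegral.exists_multiple_integral_of_isLocalization (Rₘ := O) P.primeCompl x hint
    set g : Polynomial A := Polynomial.X * g₀ with hgdef
    have hg : g.Monic := Polynomial.monic_X.mul hg₀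
    set d := g.natDegree with hd
    let y : Q := algebraMap A Q σ * x
    have hy : Polynomial.eval₂ (algebraMap A Q) y g = 0 := by
      have : y = (⟨σ, hσ⟩ : P.primeCompl) • x := (Algebra.smul_def σ x).symm
      rw [hgdef, Polynomial.eval₂_mul, this, hg₀0, mul_zero]
    have hd1 : 1 ≤ d := by
      haveI : Nontrivial A := ⟨⟨0, 1, fun h => (Ideal.IsPrime.ne_top ‹P.IsPrime›) ((Ideal.eq_top_iff_one P).2 (h ▸ P.zero_mem))⟩⟩
      rw [hd, hgdef, Polynomial.monic_X.natDegree_mul hg₀, Polynomial.natDegree_X]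
      omega
    have h1 : algebraMap A Q ((g.scaleRoots τ).eval (σ * a)) = 0 := by
      rw [← Polynomial.eval₂_at_apply, show algebraMap A Q (σ * a) = algebraMap A Q τ * y by
        rw [map_mul, ← hx]; ring]
      rw [Polynomial.scaleRoots_eval₂_mul, hy, mul_zero]
    rw [IsScalarTower.algebraMap_apply A O Q] at h1
    obtain ⟨⟨σ', hσ'⟩, hσ'0⟩ := (IsLocalization.map_eq_zero_iff P.primeCompl O _).1
      ((injective_iff_map_eq_zero _).1 (IsFractionRing.injective O Q) _ h1)
    obtain ⟨s, hs, b, hb⟩ := hdiv τ hτ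
    let i := algebraMap A S
    let c : S := i (σ * a) * b
    have hc : i τ * c = i s * i (σ * a) := by
      show i τ * (i (σ * a) * b) = _
      rw [hb]; ring
    set E := Polynomial.eval₂ i c (g.scaleRoots s) with hE
    have h2 : i σ' * (i s ^ d * Polynomial.eval₂ i (i (σ * a)) (g.scaleRoots τ)) = 0 := by
      rw [Polynomial.eval₂_at_apply, ← mul_assoc, mul_comm (i σ'), mul_assoc, ← map_mul, hσ'0, map_zero, mul_zero]
    have h3 : i σ' * (i τ ^ d * E) = 0 := by
      rw [← h2]
      congr 1
      rw [hd]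
      have e1 := Polynomial.scaleRoots_eval₂_mul (p := g.scaleRoots s) i c τ
      have e2 := Polynomial.scaleRoots_eval₂_mul (p := g.scaleRoots τ) i (i (σ * a)) s
      rw [Polynomial.natDegree_scaleRoots] at e1 e2
      rw [hE, ← e1, ← e2, ← Polynomial.scaleRoots_mul, ← Polynomial.scaleRoots_mul, hc, mul_comm s τ]
    have hbd : i s ^ d = b ^ d * i τ ^ d := by rw [← mul_pow, hb, mul_comm]
    let μ : A := σ' * s ^ d
    have hμ : μ ∉ P := fun h => by
      rcases Ideal.IsPrime.mem_or_mem ‹_› h with h | h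
      · exact hσ' h
      · exact hs (Ideal.IsPrime.mem_of_pow_mem ‹_› _ h)
    have h4 : i μ * E = 0 := by
      show i (σ' * s ^ d) * E = 0
      rw [map_mul, map_pow, hbd]
      linear_combination b ^ d * h3
    obtain ⟨a₂, ha₂⟩ := hcl (i μ * c) ⟨(g.scaleRoots s).scaleRoots μ,
      (Polynomial.monic_scaleRoots_iff μ).2 ((Polynomial.monic_scaleRoots_iff s).2 hg), by
      rw [Polynomial.scaleRoots_eval₂_mul, Polynomial.natDegree_scaleRoots, ← hd, ← hE]
      obtain ⟨k, hk⟩ := Nat.exists_eq_add_of_le hd1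
      rw [hk, pow_add, pow_one, mul_comm (i μ), mul_assoc, h4, mul_zero]⟩
    have h5 : τ * a₂ = μ * s * σ * a := hinj (by
      show i (τ * a₂) = i (μ * s * σ * a)
      rw [map_mul, ha₂, mul_left_comm, hc]
      simp only [μ, i, map_mul, map_pow]
      ring)
    obtain ⟨u, hu⟩ := (hunit (μ * s * σ) (fun h => by
      rcases Ideal.IsPrime.mem_or_mem ‹_› h with h | h
      · exact (Ideal.IsPrime.mem_or_mem ‹_› h).elim hμ hs
      · exact hσ h))
    have hQτ : IsUnit (algebraMap A Q τ) := by
      rw [IsScalarTower.algebraMap_apply A O Q]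
      exact IsLocalization.map_units Q (⟨_, hτ⟩ : O⁰)
    have huQ : IsUnit (algebraMap O Q u) := u.isUnit.map _
    refine ⟨algebraMap A O a₂ * ↑u⁻¹, huQ.mul_left_injective (hQτ.mul_left_injective ?_)⟩
    show algebraMap O Q (algebraMap A O a₂ * ↑u⁻¹) * algebraMap O Q u * algebraMap A Q τ =
      x * algebraMap O Q u * algebraMap A Q τ
    rw [← map_mul, mul_assoc, Units.inv_mul, mul_one, mul_right_comm x, hx, hu,
      ← IsScalarTower.algebraMap_apply A O Q, ← IsScalarTower.algebraMap_apply A O Q, ← map_mul, ← map_mul]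
    congr 1
    rw [mul_comm a₂, h5]
    ring
  have hic : ∀ x : Q, IsIntegral O x → ∃ y, algebraMap O Q y = x := by
    intro x hint
    obtain ⟨⟨c, d⟩, hcd⟩ := IsLocalization.surj O⁰ x
    obtain ⟨⟨τ, v⟩, hτv⟩ := IsLocalization.surj P.primeCompl (d : O)
    obtain ⟨⟨a, w⟩, haw⟩ := IsLocalization.surj P.primeCompl c
    have hτ : algebraMap A O τ ∈ O⁰ := hτv ▸ mul_mem d.2 (IsLocalization.map_units O v).mem_nonZeroDivisors
    have e1 := congrArg (algebraMap O Q) hτv
    have e2 := congrArg (algebraMap O Q) haw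
    simp only [map_mul, ← IsScalarTower.algebraMap_apply] at e1 e2
    obtain ⟨y, hy⟩ := key (x * algebraMap A Q w) (a * v) τ hτ (by
      rw [map_mul]
      linear_combination (-(x * algebraMap A Q (w : A))) * e1 + (algebraMap A Q (w : A) * algebraMap A Q (v : A)) * hcd
        + algebraMap A Q (v : A) * e2)
      (hint.mul (by rw [IsScalarTower.algebraMap_apply A O Q]; exact isIntegral_algebraMap))
    obtain ⟨u, hu⟩ := IsLocalization.map_units O w
    refine ⟨y * ↑u⁻¹, (u.isUnit.map (algebraMap O Q)).mul_left_injective ?_⟩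
    show algebraMap O Q (y * ↑u⁻¹) * algebraMap O Q u = x * algebraMap O Q u
    rw [← map_mul, mul_assoc, Units.inv_mul, mul_one, hy, hu, ← IsScalarTower.algebraMap_apply A O Q]
  have hN := NormalLib.locNormal_of_isIntegrallyClosedIn hfin Q hic
  let m := IsLocalRing.maximalIdeal O
  let e : O ≃ₐ[O] Localization.AtPrime m := IsLocalization.atUnits O m.primeCompl fun z hz => by
    exact IsLocalRing.notMem_maximalIdeal.1 hz
  have := (hN m).1
  have := (hN m).2
  have hdom : IsDomain O := e.toRingEquiv.toMulEquiv.isDomain _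
  refine ⟨hdom, ?_⟩
  have hcl' : IsIntegrallyClosed O := IsIntegrallyClosed.of_equiv e.symm.toRingEquiv
  have hnf : ¬ IsField O := fun h => by
    rw [ringKrullDim_eq_zero_of_isField h] at hdim
    exact zero_ne_one hdim
  have : Ring.KrullDimLE 1 O := Ring.krullDimLE_iff.2 hdim.le
  have h30 : (IsIntegrallyClosed O ∧ ∃! P : Ideal O, P ≠ ⊥ ∧ P.IsPrime) ↔ IsDiscreteValuationRing O :=
    (IsDiscreteValuationRing.TFAE O hnf).out 3 0
  refine h30.1 ⟨hcl', m,
    ⟨IsLocalRing.isField_iff_maximalIdeal_eq.not.1 hnf, Ideal.IsMaximal.isPrime' m⟩, ?_⟩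
  rintro p ⟨hp0, hp⟩
  exact IsLocalRing.eq_maximalIdeal (Ring.krullDimLE_one_iff_of_isPrime_bot.1 ‹_› p hp0 hp)

variable {X Y : Scheme.{u}} (f : Y ⟶ X) [LocallyOfFiniteType f] [QuasiCompact f] [QuasiSeparated f] [IsReduced Y]

theorem isDVR_stalk (hX : ∀ U : X.affineOpens, CAlg.IsNagata Γ(X, U)) (x' : ↥f.normalization)
    (hdim : ringKrullDim (f.normalization.presheaf.stalk x') = 1)
    (hx' : x' ∉ Set.range f.toNormalization.base) :
    ∃ _ : IsDomain (f.normalization.presheaf.stalk x'),
      IsDiscreteValuationRing (f.normalization.presheaf.stalk x') := by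
  obtain ⟨U, hU, hnU, -⟩ := exists_isAffineOpen_mem_and_subset (x := f.fromNormalization x') (U := ⊤) trivial
  letI := (f.app U).hom.toAlgebra
  let V := f.fromNormalization ⁻¹ᵁ U
  let W := f ⁻¹ᵁ U
  have hV : IsAffineOpen V := hU.preimage f.fromNormalization
  have hle : W ≤ f.toNormalization ⁻¹ᵁ V := by simp [V, W, ← Scheme.Hom.comp_preimage]
  let ι := f.normalizationObjIso hU
  letI : Algebra Γ(f.normalization, V) Γ(Y, W) := (f.toNormalization.appLE V W hle).hom.toAlgebra
  have hmap : ∀ a, algebraMap Γ(f.normalization, V) Γ(Y, W) a = ((ι.hom a : _) : Γ(Y, W)) := fun a => by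
    have h := ConcreteCategory.congr_hom (f.normalizationObjIso_hom_val hU) a
    rw [CommRingCat.comp_apply] at h
    exact h.symm
  have hbij := ConcreteCategory.bijective_of_isIso ι.hom
  have hinj : Function.Injective (algebraMap Γ(f.normalization, V) Γ(Y, W)) := fun a b h => by
    rw [hmap, hmap] at h
    exact hbij.1 (Subtype.ext h)
  have hcl : ∀ z : Γ(Y, W), IsIntegral Γ(f.normalization, V) z → ∃ a, algebraMap _ _ a = z := fun z hz => by
    obtain ⟨g, hg, hg0⟩ := hz
    have hz' : IsIntegral (integralClosure Γ(X, U) Γ(Y, W)) z := by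
      refine ⟨g.map ι.hom.hom, hg.map _, ?_⟩
      rw [Polynomial.eval₂_map, ← hg0]
      congr 1
      exact RingHom.ext fun a => (hmap a).symm
    obtain ⟨a, ha⟩ := hbij.2 ⟨z, isIntegral_trans z hz'⟩
    exact ⟨a, by rw [hmap, ha]⟩
  have hfin := NormFinVarLib.isFinite_fromNormalization_nagata f hX
  have : IsNoetherianRing Γ(X, U) := (hX ⟨U, hU⟩).1
  have : IsNoetherianRing Γ(f.normalization, V) := by
    letI := (f.fromNormalization.app U).hom.toAlgebra
    haveI : Module.Finite Γ(X, U) Γ(f.normalization, V) := IsFinite.finite_app f.fromNormalization U hU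
    exact IsNoetherianRing.of_finite Γ(X, U) _
  let x : V := ⟨x', hnU⟩
  letI := f.normalization.presheaf.algebra_section_stalk x
  have := hV.isLocalization_stalk x
  let P := (hV.primeIdealOf x).asIdeal
  let O := f.normalization.presheaf.stalk x'
  have hloc : IsLocalization.AtPrime O P := hV.isLocalization_stalk x
  have : IsNoetherianRing O := IsLocalization.isNoetherianRing P.primeCompl O inferInstance
  have : _root_.IsReduced Γ(f.normalization, V) := isReduced_of_injective (algebraMap _ Γ(Y, W)) hinj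
  have : _root_.IsReduced O := isReduced_localizationPreserves P.primeCompl O inferInstance
  refine isDVR_of_dim_one (S := Γ(Y, W)) P hinj hcl hdim fun τ hτ => ?_
  -- no point of `Y` over `V(τ)` specializes to `x'`
  let K : Set Y := (f.toNormalization ⁻¹ᵁ f.normalization.basicOpen τ : Set Y)ᶜ
  have hK : IsClosed K := (f.toNormalization ⁻¹ᵁ f.normalization.basicOpen τ).2.isClosed_compl
  have hnot : x' ∉ closure (f.toNormalization '' K) := fun h => by
    obtain ⟨y, hy, hs⟩ := FFDescLib.exists_specializes_of_mem_closure_image f.toNormalization hK h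
    let x'' := f.toNormalization y
    let σ := f.normalization.presheaf.stalkSpecializes hs
    have hxV : x'' ∈ V := hs.mem_open V.2 hnU
    have hgerm : ¬ IsUnit (σ (f.normalization.presheaf.germ V x' hnU τ)) := by
      rw [TopCat.Presheaf.germ_stalkSpecializes_apply]
      exact fun hu => hy ((f.normalization.mem_basicOpen τ x'' hxV).2 hu)
    let p : PrimeSpectrum O := Spec.map σ (IsLocalRing.closedPoint _)
    have hmem : algebraMap _ O τ ∈ p.asIdeal := hgerm
    have hp : p = IsLocalRing.closedPoint O := by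
      refine PrimeSpectrum.ext (IsLocalRing.eq_maximalIdeal ?_)
      have : Ring.KrullDimLE 1 O := Ring.krullDimLE_iff.2 hdim.le
      rcases Ring.krullDimLE_one_iff.1 this p.asIdeal p.2 with h' | h'
      · exact absurd (Set.disjoint_left.1 (Ideal.disjoint_nonZeroDivisors_of_mem_minimalPrimes h') hmem hτ) id
      · exact h'
    apply hx'
    refine ⟨y, ?_⟩
    show x'' = x'
    calc x'' = (f.normalization.fromSpecStalk x'') (IsLocalRing.closedPoint _) :=
          (Scheme.fromSpecStalk_closedPoint).symm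
      _ = (Spec.map σ ≫ f.normalization.fromSpecStalk x') (IsLocalRing.closedPoint _) := by
          rw [Scheme.SpecMap_stalkSpecializes_fromSpecStalk]
      _ = f.normalization.fromSpecStalk x' p := rfl
      _ = x' := by rw [hp]; exact Scheme.fromSpecStalk_closedPoint
  obtain ⟨s, hsN, hsx⟩ := hV.exists_basicOpen_le
    (V := ⟨(closure (f.toNormalization '' K))ᶜ, isClosed_closure.isOpen_compl⟩) ⟨x', hnot⟩ hnU
  have hsP : s ∉ P := by
    intro h
    have := (IsLocalization.AtPrime.isUnit_to_map_iff O P s).1 ((f.normalization.mem_basicOpen s x' hnU).1 hsx)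
    exact this h
  let sS := algebraMap Γ(f.normalization, V) Γ(Y, W) s
  let τS := algebraMap Γ(f.normalization, V) Γ(Y, W) τ
  have hb : ∀ a, Y.basicOpen (algebraMap Γ(f.normalization, V) Γ(Y, W) a) =
      W ⊓ f.toNormalization ⁻¹ᵁ f.normalization.basicOpen a := fun a => by
    show Y.basicOpen (f.toNormalization.appLE V W hle a) = _
    rw [Scheme.Hom.appLE, CommRingCat.comp_apply, Scheme.basicOpen_res, Scheme.Hom.preimage_basicOpen]
  have hsub : Y.basicOpen sS ≤ Y.basicOpen τS := by
    rw [hb, hb]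
    rintro z ⟨hzW, hz⟩
    refine ⟨hzW, ?_⟩
    by_contra hzK
    exact hsN hz (subset_closure ⟨z, hzK, rfl⟩)
  have hu : IsUnit (Y.presheaf.map (homOfLE (Y.basicOpen_le sS)).op τS) :=
    Y.toRingedSpace.isUnit_of_isUnit_germ _ _ fun z hz => by
      erw [TopCat.Presheaf.germ_res_apply]
      exact (Y.mem_basicOpen τS z (Y.basicOpen_le sS hz)).1 (hsub hz)
  obtain ⟨z, hz⟩ := hu.exists_left_inv
  letI : Algebra Γ(Y, W) Γ(Y, Y.basicOpen sS) := (Y.presheaf.map (homOfLE (Y.basicOpen_le sS)).op).hom.toAlgebra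
  have : IsLocalization.Away sS Γ(Y, Y.basicOpen sS) := isLocalization_basicOpen_of_qcqs
    (f.isCompact_preimage hU.isCompact) (f.isQuasiSeparated_preimage hU.isQuasiSeparated) sS
  obtain ⟨⟨b, ⟨_, k, rfl⟩⟩, hbk⟩ := IsLocalization.surj (Submonoid.powers sS) z
  have h6 : algebraMap Γ(Y, W) Γ(Y, Y.basicOpen sS) (τS * b) = algebraMap _ _ (sS ^ k) := by
    rw [map_mul, ← hbk, ← mul_assoc, mul_comm (algebraMap _ _ τS) z]
    exact (congrArg (· * _) hz).trans (one_mul _)
  obtain ⟨⟨_, M, rfl⟩, hM⟩ := IsLocalization.exists_of_eq (M := Submonoid.powers sS) h6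
  refine ⟨s ^ (M + k), fun h => hsP (Ideal.IsPrime.mem_of_pow_mem inferInstance _ h), sS ^ M * b, ?_⟩
  simp only at hM
  rw [map_pow, pow_add, ← hM]
  ring

end NormalizNormalLib
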